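import Mathlib.RingTheory.Flat.Basic
import Mathlib.LinearAlgebra.TensorProduct.Quotient
import Mathlib

/-!
# Annihilated elements of a flat algebra which is free modulo the annihilating ideal
-/

universe u

open TensorProduct

set_option linter.style.haveILetI false
set_option maxHeartbeats 1000000

namespace Groth.Agent.TorFreeX

theorem exists_injective_of_free {A B : Type u} [CommRing A] [CommRing B] [Algebra A B] [Module.Flat A B]
    (J : Ideal A) (hJ : J.FG) (hfree : Module.Free (A ⧸ J) ((A ⧸ J) ⊗[A] B))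
    (g : B) (hg : g ≠ 0) (hJg : ∀ j ∈ J, j • g = 0) :
    ∃ (F : Ideal A) (r : ℕ), 0 < r ∧ ∃ φ : (Fin r → ↥F) →ₗ[A] B,
      Function.Injective φ ∧ g ∈ LinearMap.range φ := by
  classical
  obtain ⟨t, ht⟩ := hJ
  let δ : A →ₗ[A] (t → A) := LinearMap.pi fun j => LinearMap.toSpanSingleton A A (j : A)
  let F : Ideal A := LinearMap.ker δ
  have hF : ∀ a : A, a ∈ F → ∀ j ∈ J, j * a = 0 := by
    intro a ha j hj
    rw [← ht] at hj
    have hk : ∀ k : t, a * (k : A) = 0 := fun k => congrFun ha k
    induction hj using Submodule.span_induction with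
    | mem x hx => rw [mul_comm]; exact hk ⟨x, hx⟩
    | zero => rw [zero_mul]
    | add x y _ _ hx hy => rw [add_mul, hx, hy, add_zero]
    | smul c x _ hx => rw [smul_eq_mul, mul_assoc, hx, mul_zero]
  -- the action of `A ⧸ J` on `F`
  let G : ↥F →ₗ[A] (A ⧸ J) →ₗ[A] ↥F :=
    { toFun := fun a => Submodule.liftQ J (LinearMap.toSpanSingleton A ↥F a) fun j hj =>
        Subtype.ext (hF a.1 a.2 j hj)
      map_add' := fun a b => Submodule.linearMap_qext _ (LinearMap.ext fun x => (smul_add x a b : _))
      map_smul' := fun c a => Submodule.linearMap_qext _ (LinearMap.ext fun x => (smul_comm x c a : _)) }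
  let I := Module.Free.ChooseBasisIndex (A ⧸ J) ((A ⧸ J) ⊗[A] B)
  let b : Module.Basis I (A ⧸ J) ((A ⧸ J) ⊗[A] B) := Module.Free.chooseBasis _ _
  have hsurj : Function.Surjective (TensorProduct.mk A (A ⧸ J) B 1) :=
    TensorProduct.mk_surjective A B (A ⧸ J) Ideal.Quotient.mk_surjective
  choose e he using fun i => hsurj (b i)
  let coord : I → B →ₗ[A] (A ⧸ J) := fun k =>
    ((b.coord k).restrictScalars A).comp (TensorProduct.mk A (A ⧸ J) B 1)
  let π : I → (B ⊗[A] ↥F) →ₗ[A] ↥F := fun k => TensorProduct.lift ((G.flip).comp (coord k))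
  let sig : (I →₀ ↥F) →ₗ[A] (B ⊗[A] ↥F) := Finsupp.lsum A fun k => TensorProduct.mk A B ↥F (e k)
  have hπ : ∀ (v : I →₀ ↥F) (k : I), π k (sig v) = v k := by
    intro v k
    induction v using Finsupp.induction_linear with
    | zero => simp
    | add v w hv hw => simp [map_add, hv, hw]
    | single l a =>
      rw [Finsupp.lsum_single, TensorProduct.mk_apply, TensorProduct.lift.tmul]
      show G a ((b.coord k) ((1 : A ⧸ J) ⊗ₜ[A] e l)) = _
      rw [show (1 : A ⧸ J) ⊗ₜ[A] e l = b l from he l, Module.Basis.coord_apply, b.repr_self]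
      rcases eq_or_ne l k with rfl | hne
      · rw [Finsupp.single_eq_same, Finsupp.single_eq_same, ← map_one (Ideal.Quotient.mk J)]
        exact one_smul A a
      · rw [Finsupp.single_eq_of_ne hne.symm, Finsupp.single_eq_of_ne hne.symm, map_zero]
  have hsg : Function.Surjective sig := by
    rw [← LinearMap.range_eq_top, eq_top_iff]
    rintro z -
    induction z using TensorProduct.induction_on with
    | zero => exact zero_mem _
    | add z w hz hw => exact add_mem hz hw
    | tmul x a =>
      let v := b.repr ((1 : A ⧸ J) ⊗ₜ[A] x)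
      choose c hc using fun i => Ideal.Quotient.mk_surjective (v i)
      let x₀ : B := v.support.sum fun i => c i • e i
      have h1 : x - x₀ ∈ (J • ⊤ : Submodule A B) := by
        rw [← Submodule.Quotient.mk_eq_zero]
        have h2 : (1 : A ⧸ J) ⊗ₜ[A] (x - x₀) = 0 := by
          rw [TensorProduct.tmul_sub, sub_eq_zero, TensorProduct.tmul_sum]
          conv_lhs => rw [← b.linearCombination_repr ((1 : A ⧸ J) ⊗ₜ[A] x), Finsupp.linearCombination_apply]
          refine Finset.sum_congr rfl fun i _ => ?_
          rw [TensorProduct.tmul_smul, show (1 : A ⧸ J) ⊗ₜ[A] e i = b i from he i, ← hc i]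
          exact IsScalarTower.algebraMap_smul (A ⧸ J) (c i) (b i)
        have h3 := congrArg (quotTensorEquivQuotSMul B J) h2
        rw [map_zero, ← map_one (Ideal.Quotient.mk J), quotTensorEquivQuotSMul_mk_tmul, one_smul] at h3
        exact h3
      have h4 : ∀ y ∈ (J • ⊤ : Submodule A B), y ⊗ₜ[A] a = 0 := by
        intro y hy
        refine Submodule.smul_induction_on hy (fun j hj y _ => ?_) (fun y z hy hz => ?_)
        · rw [TensorProduct.smul_tmul, show j • a = 0 from Subtype.ext (hF a.1 a.2 j hj), TensorProduct.tmul_zero]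
        · rw [TensorProduct.add_tmul, hy, hz, add_zero]
      refine ⟨v.support.sum fun i => Finsupp.single i (c i • a), ?_⟩
      have h5 := h4 _ h1
      rw [TensorProduct.sub_tmul, sub_eq_zero] at h5
      rw [h5, map_sum, TensorProduct.sum_tmul]
      refine Finset.sum_congr rfl fun i _ => ?_
      rw [Finsupp.lsum_single, TensorProduct.mk_apply, TensorProduct.tmul_smul, TensorProduct.smul_tmul']
  let emb : (B ⊗[A] ↥F) →ₗ[A] B := (TensorProduct.rid A B).toLinearMap.comp (LinearMap.lTensor B F.subtype)
  have hemb : Function.Injective emb := (TensorProduct.rid A B).injective.comp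
    (Module.Flat.lTensor_preserves_injective_linearMap _ Subtype.val_injective)
  have hgmem : g ∈ LinearMap.range emb := by
    have hex := Module.Flat.lTensor_exact B (f := F.subtype) (g := δ)
      (LinearMap.exact_iff.2 (by rw [Submodule.range_subtype]))
    have h0 : LinearMap.lTensor B δ (g ⊗ₜ[A] 1) = 0 := by
      rw [LinearMap.lTensor_tmul, ← Finset.univ_sum_single (δ 1), TensorProduct.tmul_sum]
      refine Finset.sum_eq_zero fun j _ => ?_
      rw [show δ 1 j = (j : A) • (1 : A) by simp [δ], Pi.single_smul, TensorProduct.tmul_smul,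
        TensorProduct.smul_tmul', hJg j (ht ▸ Submodule.subset_span j.2), TensorProduct.zero_tmul]
    obtain ⟨ξ, hξ⟩ := (hex _).1 h0
    exact ⟨ξ, by simp [emb, hξ]⟩
  obtain ⟨ξ, hξ⟩ := hgmem
  obtain ⟨v, rfl⟩ := hsg ξ
  let ε : Fin v.support.card → I := fun i => v.support.equivFin.symm i
  have hε : Function.Injective ε := Subtype.val_injective.comp v.support.equivFin.symm.injective
  let φ₀ : (Fin v.support.card → ↥F) →ₗ[A] (I →₀ ↥F) :=
    (Finsupp.lmapDomain ↥F A ε).comp (Finsupp.linearEquivFunOnFinite A ↥F _).symm.toLinearMap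
  refine ⟨F, v.support.card, ?_, (emb.comp sig).comp φ₀, ?_, ?_⟩
  · rw [Finset.card_pos, Finsupp.support_nonempty_iff]
    rintro rfl
    exact hg (by rw [← hξ, map_zero, map_zero])
  · refine (hemb.comp (fun v w h => Finsupp.ext fun k => by rw [← hπ v k, ← hπ w k, h])).comp ?_
    exact (Finsupp.mapDomain_injective hε).comp (LinearEquiv.injective _)
  · refine ⟨fun i => v (ε i), ?_⟩
    rw [LinearMap.comp_apply, LinearMap.comp_apply]
    refine Eq.trans (congrArg _ (congrArg _ ?_)) hξ
    refine Finsupp.ext fun k => ?_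
    by_cases hk : k ∈ Set.range ε
    · obtain ⟨i, rfl⟩ := hk
      show Finsupp.mapDomain ε _ (ε i) = _
      rw [Finsupp.mapDomain_apply hε]
      rfl
    · show Finsupp.mapDomain ε _ k = _
      rw [Finsupp.mapDomain_notin_range _ _ hk]
      by_contra h
      exact hk ⟨v.support.equivFin ⟨k, Finsupp.mem_support_iff.2 (Ne.symm h)⟩, by simp [ε]⟩

end Groth.Agent.TorFreeX
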