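import Groth.Agent.TorFreeX.Key
import Groth.Agent.TorFreeX.Ann
import Mathlib.AlgebraicGeometry.Morphisms.Flat
import Mathlib.AlgebraicGeometry.Morphisms.FinitePresentation
import Mathlib.AlgebraicGeometry.Morphisms.QuasiFinite

/-!
# Sections of flat quasi-finite morphisms lie in the image of a torsion free module
-/

universe u

open CategoryTheory AlgebraicGeometry TensorProduct TopologicalSpace

set_option linter.style.haveILetI false
set_option backward.isDefEq.respectTransparency false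
set_option backward.isDefEq.respectTransparency.types false

namespace Groth.Agent.TorFreeX

theorem exists_chart {X S : Scheme.{u}} (f : X ⟶ S) (g : Γ(X, ⊤)) (hg : g ≠ 0) :
    ∃ (U : S.Opens) (_ : IsAffineOpen U) (V : X.Opens) (_ : IsAffineOpen V) (_ : V ≤ f ⁻¹ᵁ U),
      X.presheaf.map (homOfLE le_top).op g ≠ (0 : Γ(X, V)) := by
  by_contra hne
  push Not at hne
  refine hg (TopCat.Presheaf.section_ext X.sheaf ⊤ g 0 fun x _ => ?_)
  obtain ⟨_, ⟨U, hU, rfl⟩, hxU, -⟩ :=
    S.isBasis_affineOpens.exists_subset_of_mem_open (Set.mem_univ (f x)) isOpen_univ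
  obtain ⟨_, ⟨V, hV, rfl⟩, hxV, hVU⟩ :=
    X.isBasis_affineOpens.exists_subset_of_mem_open (show x ∈ f ⁻¹ᵁ U from hxU) (f ⁻¹ᵁ U).2
  have := congrArg (X.presheaf.germ V x hxV) (hne U hU V hV hVU)
  rw [TopCat.Presheaf.germ_res_apply, map_zero] at this
  rw [map_zero]
  exact this

theorem main {X S : Scheme.{u}} (f : X ⟶ S) [Flat f] [LocallyOfFinitePresentation f] [LocallyQuasiFinite f]
    (g : Γ(X, ⊤)) (hg : g ≠ 0) :
    ∃ (U : S.Opens) (hU : IsAffineOpen U) (V : X.Opens) (hV : IsAffineOpen V) (hVU : V ≤ f ⁻¹ᵁ U),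
      X.presheaf.map (homOfLE le_top).op g ≠ (0 : Γ(X, V)) ∧
      ∃ (F : Ideal Γ(S, U)) (r : ℕ), 0 < r ∧
        letI := (f.appLE U V hVU).hom.toAlgebra
        ∃ φ : (Fin r → ↥F) →ₗ[Γ(S, U)] Γ(X, V), Function.Injective φ ∧ X.presheaf.map (homOfLE le_top).op g ∈ LinearMap.range φ := by
  obtain ⟨U, hU, V, hV, hVU, hgV⟩ := exists_chart f g hg
  let A := Γ(S, U)
  let B := Γ(X, V)
  let gV : B := X.presheaf.map (homOfLE le_top).op g
  letI := (f.appLE U V hVU).hom.toAlgebra
  haveI : Module.Flat A B := f.flat_appLE hU hV hVU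
  haveI : Algebra.FinitePresentation A B := f.finitePresentation_appLE hU hV hVU
  haveI : Algebra.QuasiFinite A B := LocallyQuasiFinite.quasiFinite_appLE (f := f) hU hV hVU
  obtain ⟨J, s, hJ, hJg, hs, hfree⟩ := exists_free_quotient (A := A) (B := B) gV hgV
  let U' := S.basicOpen s
  let V' := X.basicOpen (f.appLE U V hVU s)
  have hVU' : V' ≤ f ⁻¹ᵁ U' := by
    show X.basicOpen (f.appLE U V hVU s) ≤ _
    rw [Scheme.basicOpen_appLE]
    exact inf_le_right
  have hV'V : V' ≤ V := X.basicOpen_le _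
  let A₁ := Γ(S, U')
  let B₁ := Γ(X, V')
  letI : Algebra A A₁ := (S.presheaf.map (homOfLE (S.basicOpen_le s)).op).hom.toAlgebra
  letI : Algebra B B₁ := (X.presheaf.map (homOfLE hV'V).op).hom.toAlgebra
  letI : Algebra A₁ B₁ := (f.appLE U' V' hVU').hom.toAlgebra
  letI : Algebra A B₁ := ((X.presheaf.map (homOfLE hV'V).op).hom.comp (f.appLE U V hVU).hom).toAlgebra
  haveI : IsScalarTower A B B₁ := IsScalarTower.of_algebraMap_eq fun _ => rfl
  haveI : IsScalarTower A A₁ B₁ := IsScalarTower.of_algebraMap_eq fun a => by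
    show (f.appLE U V hVU ≫ X.presheaf.map (homOfLE hV'V).op) a =
      (S.presheaf.map (homOfLE (S.basicOpen_le s)).op ≫ f.appLE U' V' hVU') a
    rw [Scheme.Hom.appLE_map, Scheme.Hom.map_appLE]
  haveI : IsLocalization.Away s A₁ := hU.isLocalization_basicOpen s
  haveI : IsLocalization.Away (f.appLE U V hVU s) B₁ := hV.isLocalization_basicOpen _
  haveI : IsLocalization (Algebra.algebraMapSubmonoid B (Submonoid.powers s)) B₁ := by
    rw [Algebra.algebraMapSubmonoid_powers]
    exact ‹IsLocalization.Away (f.appLE U V hVU s) B₁›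
  haveI : Algebra.IsPushout A A₁ B B₁ := (Algebra.isPushout_of_isLocalization (Submonoid.powers s) A₁ B B₁).symm
  haveI : Module.Flat A₁ B₁ := f.flat_appLE (hU.basicOpen s) (hV.basicOpen _) hVU'
  haveI := hfree A₁ (IsLocalization.Away.algebraMap_isUnit s)
  let J₁ : Ideal A₁ := J.map (algebraMap A A₁)
  haveI hf1 : Module.Free (A₁ ⧸ J₁) ((A₁ ⧸ J₁) ⊗[A₁] B₁) :=
    Module.Free.of_equiv ((AlgebraTensorModule.cancelBaseChange A A₁ (A₁ ⧸ J₁) (A₁ ⧸ J₁) B).symm.trans
      (AlgebraTensorModule.congr (LinearEquiv.refl (A₁ ⧸ J₁) (A₁ ⧸ J₁))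
        (Algebra.IsPushout.equiv A A₁ B B₁).toLinearEquiv))
  let g₁ : B₁ := algebraMap B B₁ gV
  have hg₁ : g₁ ≠ 0 := by
    intro h
    obtain ⟨⟨_, n, rfl⟩, hn⟩ :=
      (IsLocalization.map_eq_zero_iff (Submonoid.powers (f.appLE U V hVU s)) B₁ gV).1 h
    refine hs n ?_
    rw [Algebra.smul_def, map_pow]
    exact hn
  have hJg₁ : ∀ j ∈ J₁, j • g₁ = 0 := by
    intro j hj
    induction hj using Submodule.span_induction with
    | mem x hx =>
      obtain ⟨a, ha, rfl⟩ := hx
      have h1 : a • gV = 0 := hJg a ha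
      rw [Algebra.smul_def] at h1
      rw [Algebra.smul_def, ← IsScalarTower.algebraMap_apply, IsScalarTower.algebraMap_apply A B B₁]
      show algebraMap B B₁ (algebraMap A B a) * algebraMap B B₁ gV = 0
      rw [← map_mul, h1, map_zero]
    | zero => exact zero_smul _ _
    | add x y _ _ hx hy => rw [add_smul, hx, hy, add_zero]
    | smul c x _ hx => rw [smul_assoc, hx, smul_zero]
  have hres : X.presheaf.map (homOfLE le_top).op g = g₁ := by
    show _ = (X.presheaf.map (homOfLE le_top).op ≫ X.presheaf.map (homOfLE hV'V).op) g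
    rw [← Functor.map_comp]
    rfl
  obtain ⟨F, r, hr, φ, hφ, hgφ⟩ := exists_injective_of_free J₁ (Ideal.FG.map hJ _) hf1 g₁ hg₁ hJg₁
  exact ⟨U', hU.basicOpen s, V', hV.basicOpen _, hVU', by rw [hres]; exact hg₁, F, r, hr, φ, hφ, by
    rw [hres]; exact hgφ⟩

end Groth.Agent.TorFreeX
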