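import Mathlib.RingTheory.QuasiFinite.Basic
import Mathlib.RingTheory.Spectrum.Prime.FreeLocus
import Mathlib.RingTheory.Finiteness.ModuleFinitePresentation
import Mathlib.RingTheory.Flat.Basic
import Mathlib.RingTheory.Localization.Free
import Mathlib

/-!
# Sections of flat quasi-finite algebras killed by an ideal over which the algebra is free
-/

universe u

open TensorProduct Polynomial

set_option linter.style.haveILetI false

namespace Groth.Agent.TorFreeX

variable {A B : Type u} [CommRing A] [CommRing B] [Algebra A B]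

theorem exists_integral_multiple [Algebra.QuasiFinite A B] (J : Ideal A) (P : Ideal A) [P.IsPrime]
    (hP : P ∈ J.minimalPrimes) (x : B) :
    ∃ (c u : A) (q : A[X]), c ∉ P ∧ u ∉ P ∧ q.Monic ∧
      u • Polynomial.aeval (c • x) q ∈ J.map (algebraMap A B) := by
  let κ := P.ResidueField
  have hint : _root_.IsIntegral κ ((1 : κ) ⊗ₜ[A] x : P.Fiber B) := Algebra.IsIntegral.isIntegral _
  haveI : Algebra.IsIntegral (Localization.AtPrime P) κ :=
    ⟨fun a => by
      obtain ⟨a, rfl⟩ := IsLocalRing.residue_surjective a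
      exact isIntegral_algebraMap⟩
  obtain ⟨⟨c, hc⟩, hci⟩ := IsIntegral.exists_multiple_integral_of_isLocalization P.primeCompl
    (Rₘ := Localization.AtPrime P) _ (isIntegral_trans (R := Localization.AtPrime P) _ hint)
  obtain ⟨q, hq, hqx⟩ := hci
  rw [Submonoid.smul_def, ← TensorProduct.tmul_smul] at hqx
  change Polynomial.aeval (Algebra.TensorProduct.includeRight (R := A) (A := κ) (c • x)) q = 0 at hqx
  rw [Polynomial.aeval_algHom_apply] at hqx
  let y := Polynomial.aeval (c • x) q
  -- `y` is radical over `J` up to a multiple outside `P`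
  have key : ∃ u ∉ P, ∃ n : ℕ, u • y ^ n ∈ J.map (algebraMap A B) := by
    by_contra hne
    push Not at hne
    let M : Submonoid B :=
      { carrier := {b | ∃ u ∉ P, ∃ n : ℕ, b = u • y ^ n}
        one_mem' := ⟨1, fun h => Ideal.IsPrime.ne_top' ((Ideal.eq_top_iff_one _).2 h), 0, by simp⟩
        mul_mem' := by
          rintro _ _ ⟨u, hu, n, rfl⟩ ⟨v, hv, m, rfl⟩
          exact ⟨u * v, fun h => (Ideal.IsPrime.mem_or_mem ‹P.IsPrime› h).elim hu hv, n + m, by
            rw [smul_mul_smul_comm, pow_add]⟩ }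
    obtain ⟨Q, hQ, hJQ, hdis⟩ := Ideal.exists_le_prime_disjoint (I := J.map (algebraMap A B)) M
      (Set.disjoint_left.2 fun b hb ⟨u, hu, n, e⟩ => hne u hu n (e ▸ hb))
    have hle : Q.comap (algebraMap A B) ≤ P := fun a ha => by
      by_contra haP
      exact Set.disjoint_left.1 hdis ha ⟨a, haP, 0, by simp [Algebra.smul_def]⟩
    have heq : P = Q.comap (algebraMap A B) :=
      le_antisymm (hP.2 ⟨inferInstance, Ideal.map_le_iff_le_comap.1 hJQ⟩ hle) hle
    let ψ : P.ResidueField →ₐ[A] Q.ResidueField := Ideal.ResidueField.mapₐ P Q (Algebra.ofId A B) heq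
    let Φ : P.Fiber B →ₐ[A] Q.ResidueField :=
      Algebra.TensorProduct.lift ψ (IsScalarTower.toAlgHom A B Q.ResidueField) fun _ _ => Commute.all _ _
    have h0 : algebraMap B Q.ResidueField y = 0 := by
      have := congrArg Φ hqx
      rw [map_zero] at this
      refine Eq.trans ?_ this
      show _ = Φ ((1 : κ) ⊗ₜ[A] y)
      rw [Algebra.TensorProduct.lift_tmul, map_one, one_mul]
      rfl
    exact Set.disjoint_left.1 hdis (Ideal.algebraMap_residueField_eq_zero.1 h0)
      ⟨1, fun h => Ideal.IsPrime.ne_top' ((Ideal.eq_top_iff_one _).2 h), 1, by simp⟩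
  obtain ⟨u, hu, n, hn⟩ := key
  exact ⟨c, u, q ^ n, hc, hu, hq.pow n, by rw [map_pow]; exact hn⟩

/-- Membership in an extended ideal only needs finitely many generators. -/
theorem exists_fg_le {J : Ideal A} {y : B} (hy : y ∈ J.map (algebraMap A B)) :
    ∃ J₀ : Ideal A, J₀.FG ∧ J₀ ≤ J ∧ y ∈ J₀.map (algebraMap A B) := by
  induction hy using Submodule.span_induction with
  | mem y h =>
    obtain ⟨a, ha, rfl⟩ := h
    exact ⟨Ideal.span {a}, Submodule.fg_span_singleton a, (Ideal.span_singleton_le_iff_mem _).2 ha,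
      Ideal.mem_map_of_mem _ (Ideal.mem_span_singleton_self a)⟩
  | zero => exact ⟨⊥, Submodule.fg_bot, bot_le, zero_mem _⟩
  | add y z _ _ hy hz =>
    obtain ⟨J₁, h1, h1', h1''⟩ := hy
    obtain ⟨J₂, h2, h2', h2''⟩ := hz
    exact ⟨J₁ ⊔ J₂, Submodule.FG.sup h1 h2, sup_le h1' h2', add_mem (Ideal.map_mono le_sup_left h1'')
      (Ideal.map_mono le_sup_right h2'')⟩
  | smul b y _ hy =>
    obtain ⟨J₁, h1, h1', h1''⟩ := hy
    exact ⟨J₁, h1, h1', Ideal.mul_mem_left _ b h1''⟩

/-- Base changes killing `J` with the leading data inverted are integral. -/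
theorem isIntegral_baseChange (A' : Type u) [CommRing A'] [Algebra A A'] (J : Ideal A)
    (hJ : ∀ j ∈ J, algebraMap A A' j = 0) (t : Set B) (ht : Algebra.adjoin A t = ⊤)
    (h : ∀ x ∈ t, ∃ (c u : A) (q : A[X]), IsUnit (algebraMap A A' c) ∧ IsUnit (algebraMap A A' u) ∧
      q.Monic ∧ u • Polynomial.aeval (c • x) q ∈ J.map (algebraMap A B)) :
    Algebra.IsIntegral A' (A' ⊗[A] B) := by
  let ι := Algebra.TensorProduct.includeRight (R := A) (A := A') (B := B)
  refine ⟨fun z => show z ∈ integralClosure A' (A' ⊗[A] B) from ?_⟩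
  have hsub : ι '' t ⊆ (integralClosure A' (A' ⊗[A] B) : Set (A' ⊗[A] B)) := by
    rintro _ ⟨x, hx, rfl⟩
    obtain ⟨c, u, q, hc, hu, hq, hmem⟩ := h x hx
    have h1 : ι (u • Polynomial.aeval (c • x) q) = 0 := by
      have : J.map (algebraMap A B) ≤ RingHom.ker ι.toRingHom := Ideal.map_le_iff_le_comap.2 fun j hj => by
        show ι (algebraMap A B j) = 0
        rw [AlgHom.commutes, IsScalarTower.algebraMap_apply A A' (A' ⊗[A] B), hJ j hj, map_zero]
      exact this hmem
    rw [map_smul, Algebra.smul_def, IsScalarTower.algebraMap_apply A A' (A' ⊗[A] B),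
      (hu.map (algebraMap A' (A' ⊗[A] B))).mul_right_eq_zero, ← Polynomial.aeval_algHom_apply] at h1
    have h2 : _root_.IsIntegral A (ι (c • x)) := ⟨q, hq, h1⟩
    replace h2 := h2.tower_top (A := A')
    obtain ⟨w, hw⟩ := hc
    have e : ι (c • x) = (w : A') • ι x := by
      rw [map_smul, hw]
      exact (IsScalarTower.algebraMap_smul A' c (ι x)).symm
    rw [e] at h2
    have h3 := h2.smul (↑w⁻¹ : A')
    rw [← mul_smul, Units.inv_mul, one_smul] at h3
    exact h3
  refine Algebra.adjoin_le hsub ?_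
  induction z using TensorProduct.induction_on with
  | zero => exact zero_mem _
  | add z₁ z₂ h₁ h₂ => exact add_mem h₁ h₂
  | tmul a b =>
    rw [show a ⊗ₜ[A] b = a • ((1 : A') ⊗ₜ[A] b) by rw [TensorProduct.smul_tmul', smul_eq_mul, mul_one]]
    refine Subalgebra.smul_mem _ ?_ a
    have hb : b ∈ Algebra.adjoin A t := ht.ge trivial
    show ι b ∈ _
    induction hb using Algebra.adjoin_induction with
    | mem y hy => exact Algebra.subset_adjoin ⟨y, hy, rfl⟩
    | algebraMap r =>
      rw [AlgHom.commutes, IsScalarTower.algebraMap_apply A A' (A' ⊗[A] B)]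
      exact Subalgebra.algebraMap_mem _ _
    | add y z _ _ hy hz => rw [map_add]; exact add_mem hy hz
    | mul y z _ _ hy hz => rw [map_mul]; exact mul_mem hy hz

/-- A finite flat finitely presented module is free on a basic neighbourhood of each prime. -/
theorem exists_free_away (R : Type u) [CommRing R] (M : Type u) [AddCommGroup M] [Module R M]
    [Module.FinitePresentation R M] [Module.Flat R M] (P : Ideal R) [P.IsPrime] :
    ∃ r ∉ P, Module.Free (Localization (Submonoid.powers r)) (Localization (Submonoid.powers r) ⊗[R] M) := by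
  haveI : Module.Finite (Localization.AtPrime P) (LocalizedModule P.primeCompl M) :=
    Module.Finite.of_isLocalizedModule P.primeCompl (LocalizedModule.mkLinearMap P.primeCompl M)
  haveI : Module.Free (Localization.AtPrime P) (LocalizedModule P.primeCompl M) :=
    Module.free_of_flat_of_isLocalRing
  obtain ⟨r, hr, hfree, -⟩ := Module.FinitePresentation.exists_free_localizedModule_powers P.primeCompl
    (LocalizedModule.mkLinearMap P.primeCompl M) (Localization.AtPrime P)
  exact ⟨r, hr, Module.Free.of_equiv (LocalizedModule.equivTensorProduct _ M)⟩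

/-- Freeness over a basic open propagates to algebras in which the element is a unit. -/
theorem free_of_free_away (A : Type u) [CommRing A] (R : Type u) [CommRing R] [Algebra A R]
    (B : Type u) [CommRing B] [Algebra A B] (r : R)
    (hfree : Module.Free (Localization (Submonoid.powers r)) (Localization (Submonoid.powers r) ⊗[R] (R ⊗[A] B)))
    (S : Type u) [CommRing S] [Algebra A S] [Algebra R S] [IsScalarTower A R S]
    (hru : IsUnit (algebraMap R S r)) : Module.Free S (S ⊗[A] B) := by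
  let R' := Localization (Submonoid.powers r)
  letI : Algebra R' S := (IsLocalization.Away.lift (S := R') r hru).toAlgebra
  haveI : IsScalarTower R R' S := IsScalarTower.of_algebraMap_eq fun a =>
    (IsLocalization.Away.lift_eq _ hru a).symm
  haveI : Module.Free R' (R' ⊗[R] (R ⊗[A] B)) := hfree
  haveI : Module.Free S (S ⊗[R'] (R' ⊗[R] (R ⊗[A] B))) := inferInstance
  exact Module.Free.of_equiv ((AlgebraTensorModule.cancelBaseChange R R' S S (R ⊗[A] B)).trans
    (AlgebraTensorModule.cancelBaseChange A R S S B))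

theorem exists_free_quotient [Module.Flat A B] [Algebra.FinitePresentation A B] [Algebra.QuasiFinite A B]
    (g : B) (hg : g ≠ 0) :
    ∃ (J : Ideal A) (s : A), J.FG ∧ (∀ j ∈ J, j • g = 0) ∧ (∀ n : ℕ, s ^ n • g ≠ 0) ∧
      ∀ (A₁ : Type u) [CommRing A₁] [Algebra A A₁], IsUnit (algebraMap A A₁ s) →
        Module.Free (A₁ ⧸ J.map (algebraMap A A₁)) ((A₁ ⧸ J.map (algebraMap A A₁)) ⊗[A] B) := by
  classical
  let J' : Ideal A := LinearMap.ker (LinearMap.toSpanSingleton A B g)
  have hJ'1 : (1 : A) ∉ J' := fun h => hg (by simpa [J'] using h)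
  obtain ⟨M, hM, hJM⟩ := J'.exists_le_maximal (fun h => hJ'1 (h ▸ trivial))
  obtain ⟨P, hP, -⟩ := Ideal.exists_minimalPrimes_le (I := J') (J := M) hJM
  haveI : P.IsPrime := hP.1.1
  obtain ⟨t, ht⟩ := Algebra.FiniteType.out (R := A) (A := B)
  have hdata := fun x : t => exists_integral_multiple J' P hP (x : B)
  choose c u q hc hu hq hmem using hdata
  have hJs := fun x : t => exists_fg_le (hmem x)
  choose Jx hJfg hJle hJmem using hJs
  let J : Ideal A := ⨆ x, Jx x
  have hJ : J.FG := by
    have := Submodule.fg_biSup (Finset.univ : Finset t) Jx fun x _ => hJfg x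
    have e : J = ⨆ x ∈ (Finset.univ : Finset t), Jx x := by simp [J]
    exact e ▸ this
  have hJJ : J ≤ J' := iSup_le hJle
  let s₀ : A := ∏ x : t, c x * u x
  have hs₀ : s₀ ∉ P := fun h => by
    obtain ⟨x, -, hx⟩ := (Ideal.IsPrime.prod_mem_iff (p := P)).1 h
    exact (Ideal.IsPrime.mem_or_mem ‹P.IsPrime› hx).elim (hc x) (hu x)
  let A₀ := Localization.Away s₀
  let A' := A₀ ⧸ J.map (algebraMap A A₀)
  let B' := A' ⊗[A] B
  have hunit : ∀ x : t, IsUnit (algebraMap A A' (c x)) ∧ IsUnit (algebraMap A A' (u x)) := fun x => by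
    have h1 : IsUnit (algebraMap A A' (c x * u x)) := by
      refine isUnit_of_dvd_unit (map_dvd (algebraMap A A') (Finset.dvd_prod_of_mem (fun x => c x * u x) (Finset.mem_univ x))) ?_
      rw [IsScalarTower.algebraMap_apply A A₀ A']
      exact (IsLocalization.Away.algebraMap_isUnit s₀).map _
    rwa [map_mul, IsUnit.mul_iff] at h1
  haveI : Algebra.IsIntegral A' B' := isIntegral_baseChange A' J (fun j hj => by
      rw [IsScalarTower.algebraMap_apply A A₀ A']
      exact Ideal.Quotient.eq_zero_iff_mem.2 (Ideal.mem_map_of_mem _ hj)) t ht fun x hx =>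
    ⟨c ⟨x, hx⟩, u ⟨x, hx⟩, q ⟨x, hx⟩, (hunit _).1, (hunit _).2, hq _, Ideal.map_mono (le_iSup Jx _) (hJmem ⟨x, hx⟩)⟩
  haveI : Algebra.FiniteType A' B' := inferInstance
  haveI : Module.Finite A' B' := Algebra.IsIntegral.finite (R := A') (A := B')
  haveI : Module.FinitePresentation A' B' := .of_finite_of_finitePresentation A' B'
  -- the point over `P`
  let ρ₀ : A₀ →+* P.ResidueField := IsLocalization.Away.lift (g := algebraMap A P.ResidueField) s₀
    (IsUnit.mk0 _ (fun h => hs₀ (Ideal.algebraMap_residueField_eq_zero.1 h)))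
  have hρ₀ : ∀ a, ρ₀ (algebraMap A A₀ a) = algebraMap A P.ResidueField a := IsLocalization.Away.lift_eq _ _
  let ρ : A' →+* P.ResidueField := Ideal.Quotient.lift _ ρ₀ fun a ha => by
    have : J.map (algebraMap A A₀) ≤ RingHom.ker ρ₀ := Ideal.map_le_iff_le_comap.2 fun j hj => by
      show ρ₀ _ = 0
      rw [hρ₀]
      exact Ideal.algebraMap_residueField_eq_zero.2 (hP.1.2 (hJJ hj))
    exact this ha
  let P' : Ideal A' := RingHom.ker ρ
  haveI : P'.IsPrime := RingHom.ker_isPrime ρ
  obtain ⟨r, hr, hfree⟩ := exists_free_away A' B' P'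
  obtain ⟨r₀, rfl⟩ := Ideal.Quotient.mk_surjective r
  obtain ⟨⟨a₀, w, k, rfl⟩, ha₀⟩ := IsLocalization.surj (M := Submonoid.powers s₀) r₀
  have ha₀P : a₀ ∉ P := by
    intro ha
    have h1 := congrArg ρ₀ ha₀
    rw [map_mul, hρ₀, hρ₀, Ideal.algebraMap_residueField_eq_zero.2 ha, mul_eq_zero] at h1
    rcases h1 with h1 | h1
    · exact hr (show ρ (Ideal.Quotient.mk _ r₀) = 0 from h1)
    · exact hs₀ (Ideal.IsPrime.mem_of_pow_mem ‹P.IsPrime› k (Ideal.algebraMap_residueField_eq_zero.1 h1))
  refine ⟨J, s₀ * a₀, hJ, fun j hj => hJJ hj, fun n hn => ?_, fun A₁ _ _ hs => ?_⟩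
  · have : (s₀ * a₀) ^ n ∈ P := hP.1.2 hn
    exact ((Ideal.IsPrime.mem_or_mem ‹P.IsPrime› (Ideal.IsPrime.mem_of_pow_mem ‹P.IsPrime› n this))).elim hs₀ ha₀P
  rw [map_mul, IsUnit.mul_iff] at hs
  let A'' := A₁ ⧸ J.map (algebraMap A A₁)
  let l₀ : A₀ →+* A₁ := IsLocalization.Away.lift (g := algebraMap A A₁) s₀ hs.1
  have hl₀ : ∀ a, l₀ (algebraMap A A₀ a) = algebraMap A A₁ a := IsLocalization.Away.lift_eq _ _
  let θ : A' →+* A'' := Ideal.quotientMap _ l₀ (Ideal.map_le_iff_le_comap.2 fun j hj => by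
    show l₀ _ ∈ J.map (algebraMap A A₁)
    rw [hl₀]
    exact Ideal.mem_map_of_mem _ hj)
  letI : Algebra A' A'' := θ.toAlgebra
  haveI : IsScalarTower A A' A'' := IsScalarTower.of_algebraMap_eq fun a => by
    show _ = θ (Ideal.Quotient.mk _ (algebraMap A A₀ a))
    show _ = Ideal.Quotient.mk _ (l₀ (algebraMap A A₀ a))
    rw [hl₀]
    rfl
  have hru : IsUnit (algebraMap A' A'' (Ideal.Quotient.mk _ r₀)) := by
    show IsUnit (Ideal.Quotient.mk _ (l₀ r₀))
    refine IsUnit.map _ (isUnit_of_mul_isUnit_left (y := l₀ (algebraMap A A₀ (s₀ ^ k))) ?_)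
    rw [← map_mul]
    erw [ha₀]
    rw [hl₀]
    exact hs.2
  exact free_of_free_away A A' B _ hfree A'' hru

end Groth.Agent.TorFreeX
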